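import Cfsg.Agent.Lib.Lie.MultExc.GTwoThreePts.Table

/-!
The certificate at the prime 2: a polycyclic sequence of a Sylow subgroup and conjugations.
-/

set_option autoImplicit false
set_option maxRecDepth 100000
set_option maxHeartbeats 0

namespace CfsgLib.Lie.MultExc.GTwoThreePts.P2

open CfsgLib.Spor.SchurCert

/-- The Sylow elements. -/
def sw : List (List ℕ) := [
    [245, 437, 469, 486, 526],
    [357, 496, 472, 485, 525],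
    [260, 502, 465, 525],
    [332, 423, 465],
    [63, 446, 458, 485],
    [311, 509, 461, 486, 525]]

/-- The conjugating elements. -/
def gw : List (List ℕ) := [
    [256, 444, 473, 525],
    [323, 422, 433, 485],
    [373, 501, 464, 486, 526]]

/-- The certificate. -/
def cert : CfsgLib.Spor.SchurCert.Cert where
  p := 2
  m := 6
  N := 2
  rules := [
    ([0, 0], []),
    ([1, 1], []),
    ([2, 2], []),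
    ([3, 3], [5]),
    ([4, 4], [5]),
    ([5, 5], []),
    ([1, 0], [0, 1, 2, 3, 4, 5]),
    ([2, 0], [0, 2]),
    ([2, 1], [1, 2, 4, 5]),
    ([3, 0], [0, 3, 5]),
    ([3, 1], [1, 3, 4]),
    ([3, 2], [2, 3]),
    ([4, 0], [0, 4, 5]),
    ([4, 1], [1, 4, 5]),
    ([4, 2], [2, 4, 5]),
    ([4, 3], [3, 4, 5]),
    ([5, 0], [0, 5]),
    ([5, 1], [1, 5]),
    ([5, 2], [2, 5]),
    ([5, 3], [3, 5]),
    ([5, 4], [4, 5])]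
  maps := [
    [([0, 3], [0, 2, 3]), ([2], [0, 3]), ([5], [0, 2, 3, 5])],
    [([0], [0, 2, 5]), ([2], [2]), ([3], [3, 5]), ([4], [3, 4]), ([5], [5])],
    [([0], [0, 2, 3, 4, 5]), ([2, 4], [1, 4]), ([3], [0, 1, 4]), ([5], [2, 3, 4])]]
  overlaps := [
    ([1, 1, 0], [(1, 0)], [(6, 1), (6, 0), (17, 5), (13, 4), (10, 3), (8, 2), (1, 1), (19, 3), (15, 2), (5, 4), (4, 3), (20, 3), (5, 4), (18, 4), (14, 3), (11, 2), (2, 1), (5, 3), (15, 2), (3, 1), (20, 1), (5, 2), (4, 1), (5, 1)]),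
    ([1, 0, 0], [(0, 1)], [(6, 0), (16, 5), (12, 4), (9, 3), (7, 2), (6, 1), (0, 0), (18, 4), (14, 3), (11, 2), (2, 1), (5, 3), (15, 2), (3, 1), (20, 1), (5, 2), (20, 2), (4, 1), (5, 1), (5, 1)]),
    ([2, 2, 1], [(2, 0)], [(8, 1), (8, 0), (18, 3), (14, 2), (2, 1), (5, 2), (4, 1), (5, 1)]),
    ([2, 1, 1], [(1, 1)], [(8, 0), (17, 3), (13, 2), (8, 1), (1, 0), (20, 2), (4, 1), (5, 1), (5, 1)]),
    ([2, 1, 0], [(8, 0), (16, 3), (12, 2), (7, 1), (6, 0), (18, 5), (14, 4), (11, 3), (2, 2), (5, 4), (4, 3), (5, 3)], [(6, 1), (7, 0), (8, 1), (18, 4), (14, 3), (2, 2), (5, 3), (15, 2), (20, 4), (4, 3), (5, 3)]),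
    ([3, 3, 3], [(3, 0), (19, 0)], [(3, 1)]),
    ([3, 3, 0], [(3, 0), (16, 0)], [(9, 1), (9, 0), (19, 2), (3, 1), (5, 1)]),
    ([3, 3, 1], [(3, 0), (17, 0)], [(10, 1), (10, 0), (15, 2), (3, 1), (20, 1), (5, 2), (4, 1)]),
    ([3, 1, 1], [(1, 1)], [(10, 0), (13, 2), (10, 1), (1, 0), (4, 1), (5, 1)]),
    ([3, 3, 2], [(3, 0), (18, 0)], [(11, 1), (11, 0), (3, 1)]),
    ([3, 2, 1], [(11, 0), (10, 1), (8, 0), (19, 3), (15, 2), (5, 4), (4, 3)], [(8, 1), (10, 0), (14, 2), (11, 1), (20, 4), (4, 3), (5, 3)]),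
    ([4, 1, 0], [(13, 0), (16, 2), (12, 1), (6, 0), (20, 5), (4, 4), (5, 4), (5, 4)], [(6, 1), (12, 0), (17, 2), (13, 1), (5, 3), (14, 2), (19, 4), (15, 3), (5, 5), (4, 4), (5, 4)])]
  fuses := [
    ⟨0, [0, 0], [], [(9, 1), (0, 0), (19, 1), (3, 0), (5, 0)], [], [(9, 2), (7, 1), (0, 0), (18, 2), (11, 1), (2, 0), (19, 1), (3, 0), (5, 0)], []⟩,
    ⟨0, [1, 1], [], [(2, 0)], [], [(9, 1), (0, 0), (19, 1), (3, 0), (5, 0)], []⟩,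
    ⟨0, [2, 1], [1, 2], [(18, 0)], [], [(16, 3), (9, 2), (7, 1), (0, 0), (5, 2), (3, 1)], [(9, 1), (0, 0), (18, 1), (11, 0), (19, 2), (3, 1), (5, 1)]⟩,
    ⟨1, [0, 0], [], [(0, 0)], [], [(16, 2), (7, 1), (0, 0), (18, 1), (2, 0), (5, 0)], []⟩,
    ⟨1, [2, 0], [0, 2, 4], [(9, 0)], [], [(16, 1), (9, 0), (5, 2), (11, 1)], [(19, 2), (5, 3)]⟩,
    ⟨1, [3, 0], [0, 3, 4], [(12, 0)], [], [(12, 1), (9, 0), (20, 2), (5, 3), (14, 2), (11, 1), (5, 4)], [(19, 2), (20, 3), (5, 4)]⟩,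
    ⟨2, [1, 1], [], [(14, 1), (2, 0), (20, 1), (4, 0), (5, 0)], [], [(13, 1), (1, 0), (20, 1), (4, 0), (5, 0)], []⟩]
  adj := [
    [],
    [],
    [(6, 1), (8, 1)],
    [],
    [(3, 1), (8, 1)],
    [(3, 1)]]
  base := []
  dense := [
    [0, 0, 1, 1, 0, 1, 0, 0, 1, 0, 1, 1, 0, 1, 1, 0, 0, 1, 1, 1],
    [0, 0, 1, 1, 1, 0, 0, 1, 0, 1, 0, 1, 1, 0, 1, 1, 1, 0, 1],
    [0, 0, 0, 0, 1, 0, 0, 0, 0, 0, 0, 0, 0, 0, 1, 0, 0, 0, 1],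
    [0, 0, 0, 0, 1, 0, 0, 0, 0, 0, 0, 0, 0, 1, 0, 0, 0, 1, 0, 0, 1],
    [0, 0, 0, 0, 0, 0, 0, 0, 0, 0, 0, 1, 1, 0, 0, 1, 1, 0, 0, 0, 1],
    [0, 0, 0, 0, 0, 0, 0, 0, 0, 0, 0, 0, 0, 0, 0, 0, 0, 0, 0, 1],
    [0, 0, 0, 0, 0, 1, 0, 0, 0, 0, 0, 0, 0, 0, 0, 0, 1, 0, 0, 1],
    [0, 0, 0, 0, 1, 1, 0, 0, 0, 0, 0, 0, 0, 0, 0, 1, 0, 1, 0, 0, 1],
    [0, 0, 0, 0, 1, 1, 0, 0, 0, 0, 0, 0, 0, 1],
    [0, 0, 0, 0, 0, 0, 0, 0, 0, 0, 0, 0, 0, 0, 0, 0, 0, 0, 1],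
    [0, 0, 0, 0, 0, 0, 0, 0, 0, 0, 0, 0, 0, 0, 1, 1, 0, 0, 0, 1, 1],
    [0, 0, 0, 0, 0, 1, 0, 0, 0, 0, 0, 0, 0, 0, 1, 1, 1, 1, 0, 1, 1],
    [0, 0, 1, 0, 0, 0, 0, 1, 0, 0, 0, 1, 0, 0, 0, 0, 0, 0, 1],
    [1, 0, 1, 1, 0, 1, 0, 0, 0, 1, 0, 0, 0, 0, 0, 0, 0, 0, 0, 1],
    [0, 0, 0, 0, 0, 0, 0, 1, 0, 0, 0, 1, 0, 0, 0, 0, 1, 0, 0, 1],
    [0, 0, 1, 0, 0, 1, 0, 1, 0, 0, 0, 0, 0, 0, 0, 0, 1, 0, 1],
    [0, 0, 0, 0, 0, 0, 0, 0, 0, 0, 0, 1, 0, 0, 0, 0, 1, 0, 0, 1, 0, 0, 0, 0, 0, 0, 0, 0, 0, 0, 0, 1],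
    [0, 0, 0, 0, 0, 1, 0, 0, 0, 1, 0, 1, 0, 0, 1, 0, 0, 0, 0, 1, 0, 0, 0, 0, 0, 0, 0, 0, 0, 0, 0, 1],
    [0, 1, 1, 0, 0, 0, 0, 0, 0, 0, 0, 0, 0, 1, 1]]
  tgt := [
    ([], [(1, 1), (3, 1), (4, 1), (5, 1), (7, 1), (8, 1), (9, 1), (10, 1), (12, 1), (13, 1), (14, 1), (15, 1)]),
    ([], [(2, 1), (6, 1), (8, 1), (12, 1), (14, 1), (18, 1)]),
    ([], [(2, 1), (7, 1), (11, 1), (12, 1), (14, 1)]),
    ([], []),
    ([], [(1, 1), (2, 1), (3, 1), (4, 1), (5, 1), (7, 1), (8, 1), (9, 1), (10, 1), (15, 1), (16, 1), (17, 1)]),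
    ([], [(2, 1), (6, 1), (7, 1), (9, 1), (11, 1)]),
    ([], []),
    ([], [(2, 1), (5, 1), (6, 1), (7, 1), (9, 1), (11, 1), (12, 1), (14, 1), (15, 1)]),
    ([], []),
    ([], [(1, 1), (3, 1), (4, 1), (6, 1), (7, 1), (8, 1), (10, 1), (15, 1)]),
    ([], [(0, 1), (5, 1), (7, 1), (8, 1), (10, 1), (14, 1), (15, 1)]),
    ([], [(5, 1), (6, 1), (12, 1), (15, 1)]),
    ([], [(1, 1), (2, 1), (3, 1), (6, 1), (8, 1), (9, 1), (11, 1), (12, 1), (16, 1), (17, 1)]),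
    ([], [(1, 1), (3, 1), (4, 1), (5, 1), (6, 1), (10, 1), (11, 1), (15, 1), (16, 1), (17, 1)]),
    ([], [(1, 1), (3, 1), (4, 1), (5, 1), (7, 1), (8, 1), (10, 1), (15, 1), (16, 1), (17, 1)]),
    ([], [(1, 1), (2, 1), (4, 1), (5, 1), (9, 1), (10, 1), (15, 1), (16, 1), (17, 1)]),
    ([], [(2, 1), (5, 1), (7, 1), (9, 1), (11, 1)]),
    ([], [(5, 1), (6, 1), (10, 1), (11, 1)]),
    ([], [(9, 1)]),
    ([], [(5, 1)]),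
    ([], [(2, 1), (3, 1), (5, 1), (7, 1), (8, 1), (9, 1), (10, 1)])]

/-- Orbits inside the subgroup. -/
def orbits : List (ℕ × List (ℕ × List ℕ)) := [
    (3, [(3, []), (18, [0, 2, 3, 4]), (56, [2, 5]), (63, [0, 1, 3]), (76, [0, 5]), (78, [0, 2]), (83, [1, 4]), (88, [1, 2]), (90, [0, 3, 4]), (106, [3, 5]), (110, [2, 4]), (116, [0, 3]), (150, [0, 1]), (155, [1]), (156, [0, 2, 5]), (172, [5]), (209, [1, 5]), (240, [0, 1, 4]), (249, [0, 4]), (278, [4, 5]), (291, [0, 4, 5]), (295, [3, 4]), (300, [0]), (301, [3]), (309, [0, 1, 5]), (311, [4]), (315, [0, 2, 4]), (316, [2, 3, 4]), (342, [0, 1, 2]), (343, [2]), (366, [0, 3, 5]), (370, [1, 3])]),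
    (0, [(0, []), (181, [1, 2, 3])])]

theorem checks : certChecks 378 tab cert sw gw orbits = true := by decide +kernel

theorem lin_ok : cert.linOK = true := by decide +kernel

end CfsgLib.Lie.MultExc.GTwoThreePts.P2
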