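import Cfsg.Agent.Lib.Lie.MultExc.GTwoThreePts.Table

/-!
The certificate at the prime 3: a polycyclic sequence of a Sylow subgroup and conjugations.
-/

set_option autoImplicit false
set_option maxRecDepth 100000
set_option maxHeartbeats 0

namespace CfsgLib.Lie.MultExc.GTwoThreePts.P3

open CfsgLib.Spor.SchurCert

/-- The Sylow elements. -/
def sw : List (List ℕ) := [
    [58, 445, 474, 486, 526],
    [201, 448, 474],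
    [93, 505, 456, 525],
    [171, 510, 474, 485, 525],
    [100, 447, 459, 526],
    [87, 498, 463, 485, 525]]

/-- The conjugating elements. -/
def gw : List (List ℕ) := [
    [48, 425, 473, 485, 525],
    [310, 510, 458, 486],
    [93, 475, 486, 525],
    [307, 423, 457, 485],
    [210, 492, 526],
    [33, 500, 460, 526],
    [100, 447, 459, 485],
    [261, 510, 475],
    [87, 506, 458, 526],
    [402, 514, 476, 485, 525],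
    [86, 508, 469, 486, 525],
    [176, 493, 475, 485],
    [143, 436, 462],
    [247, 496, 467, 486, 525],
    [247, 496, 467, 486, 525],
    [103, 437, 471],
    [349, 426, 456, 486],
    [48, 515, 466, 485],
    [48, 515, 466, 485],
    [75, 489, 476, 485, 526],
    [122, 504, 466, 485, 525],
    [168, 439, 459, 485],
    [27, 493, 475],
    [59, 425, 466, 526]]

/-- The certificate. -/
def cert : CfsgLib.Spor.SchurCert.Cert where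
  p := 3
  m := 6
  N := 9
  rules := [
    ([0, 0, 0], []),
    ([1, 1, 1], []),
    ([2, 2, 2], []),
    ([3, 3, 3], []),
    ([4, 4, 4], []),
    ([5, 5, 5], []),
    ([1, 0], [0, 1]),
    ([2, 0], [0, 2, 3, 3, 4]),
    ([2, 1], [1, 2, 3, 3, 5]),
    ([3, 0], [0, 3, 4, 4]),
    ([3, 1], [1, 3, 4, 4]),
    ([3, 2], [2, 3, 4, 5, 5]),
    ([4, 0], [0, 4]),
    ([4, 1], [1, 4]),
    ([4, 2], [2, 4]),
    ([4, 3], [3, 4]),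
    ([5, 0], [0, 5]),
    ([5, 1], [1, 5]),
    ([5, 2], [2, 5]),
    ([5, 3], [3, 5]),
    ([5, 4], [4, 5])]
  maps := [
    [([0], [1, 1, 3, 5, 5]), ([1], [0, 0, 3, 4, 5, 5]), ([2], [2, 2]), ([3], [3, 4, 5]), ([4], [4, 4]), ([5], [5, 5])],
    [([0], [1, 3, 4]), ([1], [0, 3, 4, 4, 5, 5]), ([2], [2, 2, 4, 5, 5]), ([3], [3, 3, 4, 4, 5]), ([4], [4, 4]), ([5], [4, 5])],
    [([0], [1, 3, 4]), ([1], [0, 3, 4, 4, 5, 5]), ([2], [2, 2, 4, 5, 5]), ([3], [3, 3, 4, 4, 5]), ([4], [4, 4]), ([5], [4, 5])],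
    [([0], [1, 4, 5]), ([1], [0, 5, 5]), ([2], [2, 2, 4, 5, 5]), ([3], [3, 3]), ([4], [4, 4]), ([5], [4, 5])],
    [([0], [1, 4, 5]), ([1], [0, 5, 5]), ([2], [2, 2, 4, 5, 5]), ([3], [3, 3]), ([4], [4, 4]), ([5], [4, 5])],
    [([0], [0, 1, 4, 4, 5]), ([1], [0, 0, 4, 4, 5]), ([3], [1, 1, 3, 4, 4, 5, 5]), ([4], [4, 4]), ([5], [0, 1, 1, 4, 4, 5])],
    [([0], [0]), ([1], [1]), ([2], [2, 4, 4, 5]), ([3], [3]), ([4], [4]), ([5], [5])],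
    [([0], [0, 1, 5]), ([1], [0, 0, 5]), ([3], [1, 1, 3, 4, 5, 5]), ([4], [4, 4]), ([5], [0, 1, 1, 4, 4, 5])],
    [([0], [0, 4, 4]), ([1], [1, 4, 4]), ([2], [2, 3, 4, 5, 5]), ([3], [3, 4]), ([4], [4]), ([5], [5])],
    [([0], [0, 3, 4]), ([1], [1, 3, 4, 4, 5, 5]), ([2], [2, 3, 3, 4]), ([3], [3, 5, 5]), ([4], [4]), ([5], [5])],
    [([0], [0, 3, 3, 4, 4, 5, 5]), ([1], [1, 3, 3, 4]), ([2], [2, 3, 3, 5]), ([3], [3, 4, 5]), ([4], [4]), ([5], [5])],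
    [([0], [0]), ([1], [1]), ([2], [2, 3, 3, 4, 4, 5, 5]), ([3], [3, 4, 4]), ([4], [4]), ([5], [5])],
    [([0], [0, 3, 3, 5, 5]), ([1], [1, 3, 3, 4, 4]), ([2], [2, 3, 3, 4]), ([3], [3, 4, 5]), ([4], [4]), ([5], [5])],
    [([0], [0, 0]), ([1], [0, 0, 4, 5]), ([3], [0, 3, 4, 4]), ([4], [4, 4]), ([5], [0, 0, 1, 4])],
    [([0], [0, 0]), ([1], [0, 0, 4, 5]), ([3], [0, 3, 4, 4]), ([4], [4, 4]), ([5], [0, 0, 1, 4])],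
    [([0], [0, 0]), ([1], [0, 0, 4, 5]), ([3], [0, 3, 4]), ([4], [4, 4]), ([5], [0, 0, 1, 4])],
    [([0], [0, 0]), ([1], [0, 0, 4, 5]), ([3], [0, 3, 4]), ([4], [4, 4]), ([5], [0, 0, 1, 4])],
    [([0], [1, 3, 3, 4, 5]), ([1], [0, 3, 3, 4, 5]), ([2], [2, 2, 4, 4, 5]), ([3], [3, 3, 4, 5, 5]), ([4], [4, 4]), ([5], [4, 5])],
    [([0], [1, 3, 3, 4, 5]), ([1], [0, 3, 3, 4, 5]), ([2], [2, 2, 4, 4, 5]), ([3], [3, 3, 4, 5, 5]), ([4], [4, 4]), ([5], [4, 5])],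
    [([0], [1, 1, 4, 5, 5]), ([1], [0, 0, 5]), ([2], [2, 2]), ([3], [3, 4, 4]), ([4], [4, 4]), ([5], [5, 5])],
    [([0], [1, 1, 5, 5]), ([1], [0, 0, 4, 4, 5]), ([2], [2, 2]), ([3], [3, 4, 4]), ([4], [4, 4]), ([5], [5, 5])],
    [([0], [1, 1, 5, 5]), ([1], [0, 0, 4, 4, 5]), ([2], [2, 2]), ([3], [3, 4, 4]), ([4], [4, 4]), ([5], [5, 5])],
    [([0], [0, 4]), ([1], [1, 4]), ([2], [2, 4, 4, 5]), ([3], [3]), ([4], [4]), ([5], [5])],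
    [([0], [0, 4, 4]), ([1], [1, 4, 4]), ([2], [2, 4, 4, 5]), ([3], [3]), ([4], [4]), ([5], [5])]]
  overlaps := [
    ([2, 2, 2, 0], [(2, 0)], [(7, 2), (7, 1), (7, 0), (14, 4), (11, 3), (11, 2), (19, 6), (19, 5), (15, 4), (20, 7), (20, 6), (5, 7), (20, 7), (4, 5), (19, 5), (3, 3), (19, 3), (20, 4), (18, 5), (14, 4), (11, 3), (2, 1), (20, 4), (20, 3), (5, 4), (15, 3), (15, 2), (15, 4), (15, 3), (3, 1), (4, 1)]),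
    ([2, 0, 0, 0], [(0, 1)], [(7, 0), (12, 4), (9, 3), (9, 2), (7, 1), (15, 5), (3, 3), (4, 3), (4, 4), (9, 3), (7, 2), (0, 0), (15, 3), (3, 1), (4, 1)]),
    ([2, 2, 2, 1], [(2, 0)], [(8, 2), (8, 1), (8, 0), (18, 4), (11, 3), (11, 2), (19, 6), (19, 5), (15, 4), (20, 7), (20, 6), (5, 7), (19, 8), (19, 7), (15, 6), (15, 5), (3, 3), (19, 6), (19, 5), (15, 4), (15, 3), (5, 6), (14, 5), (14, 4), (11, 3), (2, 1), (20, 4), (20, 3), (20, 5), (20, 4), (4, 2), (19, 3), (19, 2), (19, 4), (19, 3), (3, 1), (5, 1)]),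
    ([2, 1, 1, 1], [(1, 1)], [(8, 0), (17, 4), (10, 3), (10, 2), (8, 1), (19, 5), (3, 3), (20, 3), (20, 4), (19, 5), (15, 4), (15, 3), (20, 6), (4, 4), (20, 4), (17, 6), (17, 5), (13, 4), (10, 3), (8, 2), (1, 0), (19, 3), (3, 1), (20, 1), (20, 2), (20, 3), (4, 1), (5, 1)]),
    ([2, 1, 0], [(8, 0), (16, 4), (9, 3), (9, 2), (7, 1), (6, 0), (15, 5), (3, 3), (4, 3)], [(6, 1), (7, 0), (13, 4), (10, 3), (10, 2), (8, 1), (19, 5), (3, 3), (20, 3), (20, 4), (19, 5), (15, 4), (15, 3), (20, 6), (4, 4), (20, 4), (20, 5)]),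
    ([3, 3, 3, 0], [(3, 0)], [(9, 2), (9, 1), (9, 0), (15, 3), (15, 2), (4, 3), (15, 3), (3, 1), (4, 1)]),
    ([3, 0, 0, 0], [(0, 1)], [(9, 0), (12, 3), (12, 2), (9, 1), (4, 3), (12, 3), (9, 2), (0, 0), (4, 1)]),
    ([3, 3, 3, 1], [(3, 0)], [(10, 2), (10, 1), (10, 0), (15, 3), (15, 2), (4, 3), (15, 3), (3, 1), (4, 1)]),
    ([3, 1, 1, 1], [(1, 1)], [(10, 0), (13, 3), (13, 2), (10, 1), (4, 3), (13, 3), (10, 2), (1, 0), (4, 1)]),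
    ([3, 1, 0], [(10, 0), (12, 3), (12, 2), (9, 1), (6, 0), (4, 3)], [(6, 1), (9, 0), (13, 3), (13, 2), (10, 1), (4, 3)]),
    ([3, 2, 0], [(11, 0), (16, 4), (16, 3), (12, 2), (9, 1), (7, 0), (15, 4), (3, 2), (4, 2)], [(7, 1), (9, 0), (14, 3), (14, 2), (11, 1), (20, 5), (20, 4), (20, 6), (20, 5), (4, 3), (19, 4), (19, 3), (19, 5), (19, 4), (3, 2), (20, 3), (20, 2)]),
    ([3, 2, 1], [(11, 0), (17, 4), (17, 3), (13, 2), (10, 1), (8, 0), (19, 4), (3, 2), (20, 2), (20, 3), (20, 4), (4, 2), (5, 2)], [(8, 1), (10, 0), (14, 3), (14, 2), (11, 1), (20, 5), (20, 4), (20, 6), (20, 5), (4, 3), (19, 4), (19, 3), (19, 5), (19, 4), (3, 2), (5, 2)]),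
    ([4, 2, 0], [(14, 0), (12, 1), (7, 0)], [(7, 1), (12, 0), (14, 1), (15, 2), (15, 3)]),
    ([4, 2, 1], [(14, 0), (13, 1), (8, 0), (20, 4)], [(8, 1), (13, 0), (14, 1), (15, 2), (15, 3)]),
    ([4, 3, 2], [(15, 0), (14, 1), (11, 0), (20, 4), (20, 3)], [(11, 1), (14, 0), (15, 1)]),
    ([5, 5, 5, 1], [(5, 0)], [(17, 2), (17, 1), (17, 0), (5, 1)]),
    ([5, 2, 0], [(18, 0), (16, 1), (7, 0)], [(7, 1), (16, 0), (18, 1), (19, 2), (19, 3), (20, 4)])]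
  fuses := [
    ⟨0, [0, 0, 0], [], [(0, 0)], [], [(17, 4), (17, 3), (10, 2), (1, 0), (17, 4), (17, 3), (13, 2), (13, 1), (10, 0), (4, 2), (19, 4), (19, 3), (15, 2), (5, 4), (17, 4), (13, 3), (10, 2), (10, 1), (15, 4), (15, 3), (4, 4), (17, 6), (13, 5), (13, 4), (10, 3), (10, 2), (1, 0), (15, 2), (15, 1), (4, 2), (4, 2), (19, 2), (3, 0), (5, 0)], []⟩,
    ⟨0, [1, 0], [0, 1], [(6, 0)], [], [(17, 5), (17, 4), (13, 3), (10, 2), (4, 4), (17, 5), (17, 4), (10, 3), (19, 8), (19, 7), (15, 6), (15, 5), (5, 8)], [(16, 4), (16, 3), (9, 2), (6, 1), (6, 0), (16, 7), (16, 6), (12, 5), (12, 4), (9, 3), (6, 2), (6, 1), (4, 5), (19, 7), (19, 6), (15, 5), (20, 8), (20, 7), (5, 8)]⟩,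
    ⟨0, [2, 0], [0, 2, 3, 3, 4], [(7, 0)], [], [(8, 1), (8, 0), (18, 4), (11, 3), (11, 2), (19, 6), (19, 5), (15, 4), (20, 7), (20, 6), (5, 7), (19, 8), (19, 7), (15, 6), (15, 5), (3, 3), (19, 6), (19, 5), (15, 4), (15, 3), (5, 6), (13, 5), (13, 4), (10, 3), (8, 2), (8, 1), (18, 5), (11, 4), (11, 3), (19, 7), (19, 6), (15, 5), (20, 8), (20, 7), (5, 8), (19, 9), (19, 8), (15, 7), (15, 6), (3, 4), (19, 7), (19, 6), (15, 5), (15, 4), (5, 7), (15, 6), (15, 5), (4, 6), (4, 6), (3, 4)], [(18, 4), (18, 3), (11, 2), (5, 5), (18, 5), (14, 4), (11, 3), (20, 7), (20, 6), (5, 7), (15, 6), (15, 5), (4, 6), (19, 6), (3, 4), (20, 4), (20, 6), (20, 5), (20, 7), (20, 6), (4, 4)]⟩,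
    ⟨0, [3, 0], [0, 3, 4, 4], [(9, 0)], [], [(17, 2), (13, 1), (10, 0), (4, 2), (17, 2), (10, 1), (19, 5), (15, 4), (15, 3), (5, 6)], [(19, 4), (19, 3), (20, 5), (20, 4), (5, 5), (4, 4)]⟩,
    ⟨0, [4, 0], [0, 4], [(12, 0)], [], [(13, 1), (13, 0), (13, 2), (13, 1), (15, 3), (15, 2)], [(20, 4), (20, 3), (20, 5), (20, 4)]⟩,
    ⟨0, [2, 1], [1, 2, 3, 3, 5], [(8, 0)], [], [(7, 1), (7, 0), (14, 4), (11, 3), (11, 2), (19, 6), (19, 5), (15, 4), (20, 7), (20, 6), (5, 7), (20, 7), (4, 5), (19, 5), (3, 3), (19, 3), (20, 4), (16, 5), (12, 4), (9, 3), (7, 2), (7, 1), (14, 5), (11, 4), (11, 3), (19, 7), (19, 6), (15, 5), (20, 8), (20, 7), (5, 8), (20, 8), (4, 6), (19, 6), (3, 4), (19, 4), (20, 5), (19, 6), (15, 5), (20, 7), (20, 8), (4, 6), (20, 6), (19, 8), (19, 7), (15, 6), (3, 4), (20, 6), (20, 5), (5, 6)], [(18, 5), (18,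 4), (14, 3), (11, 2), (20, 6), (20, 5), (5, 6), (18, 6), (14, 5), (14, 4), (11, 3), (20, 7), (20, 6), (20, 8), (20, 7), (4, 5), (5, 5), (19, 7), (15, 6), (3, 4), (20, 5), (5, 6)]⟩,
    ⟨0, [3, 1], [1, 3, 4, 4], [(10, 0)], [], [(16, 2), (12, 1), (9, 0), (4, 2), (16, 2), (9, 1), (19, 5), (15, 4), (15, 3), (20, 6), (4, 4), (5, 4)], [(19, 5), (19, 4), (15, 3), (20, 6), (20, 5), (5, 6), (4, 4), (4, 4)]⟩,
    ⟨0, [2, 2, 2], [], [(2, 0)], [], [(2, 0), (2, 0)], []⟩,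
    ⟨0, [3, 2], [2, 3, 4, 5, 5], [(11, 0)], [], [(18, 2), (14, 1), (11, 0), (20, 4), (20, 3), (5, 4), (14, 3), (14, 2), (11, 1), (20, 5), (20, 4), (20, 6), (20, 5), (4, 3)], [(20, 4), (20, 5), (4, 3), (5, 3)]⟩,
    ⟨1, [0, 0, 0], [], [(0, 0)], [], [(13, 2), (10, 1), (4, 3), (13, 4), (10, 3), (10, 2), (1, 0), (15, 2), (15, 1), (4, 2), (15, 3), (15, 2), (3, 0), (4, 0)], []⟩,
    ⟨1, [2, 0], [0, 2, 3, 3, 4], [(7, 0)], [], [(17, 4), (17, 3), (13, 2), (8, 1), (8, 0), (18, 4), (11, 3), (11, 2), (19, 6), (19, 5), (15, 4), (20, 7), (20, 6), (5, 7), (19, 8), (19, 7), (15, 6), (15, 5), (3, 3), (19, 6), (19, 5), (15, 4), (15, 3), (5, 6), (4, 4), (19, 5), (19, 4), (20, 6), (20, 5)], [(14, 2), (11, 1), (20, 5), (20, 4), (18, 6), (18, 5), (14, 4), (14, 3), (11, 2), (20, 6), (20, 5), (20, 7), (20, 6), (4, 4), (5, 4), (20,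 4), (5, 5), (15, 4), (15, 5), (3, 3), (4, 3), (19, 3), (19, 4), (20, 5), (20, 6), (20, 8), (20, 7), (4, 5), (20, 6), (20, 5)]⟩,
    ⟨1, [3, 0], [0, 3, 4, 4], [(9, 0)], [], [(17, 4), (13, 3), (13, 2), (10, 1), (10, 0), (15, 3), (15, 2), (4, 3), (4, 3), (19, 3), (3, 1), (20, 1)], [(15, 2), (15, 3), (3, 1), (4, 1), (20, 1), (20, 2), (20, 3), (4, 1), (20, 1)]⟩,
    ⟨1, [4, 0], [0, 4], [(12, 0)], [], [(13, 1), (13, 0), (15, 2), (15, 1), (4, 2)], [(4, 2)]⟩,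
    ⟨1, [2, 1], [1, 2, 3, 3, 5], [(8, 0)], [], [(16, 4), (16, 3), (12, 2), (7, 1), (7, 0), (14, 4), (11, 3), (11, 2), (19, 6), (19, 5), (15, 4), (20, 7), (20, 6), (5, 7), (20, 7), (4, 5), (19, 5), (3, 3), (19, 3), (20, 4), (20, 5), (5, 6), (15, 5), (15, 4), (4, 5)], [(18, 5), (18, 4), (14, 3), (14, 2), (11, 1), (20, 5), (20, 4), (20, 6), (20, 5), (4, 3), (5, 3), (18, 3), (11, 2), (5, 5), (19, 7), (19, 6), (15, 5), (15, 4), (19, 8), (19, 7), (15, 6), (15, 5), (3, 3), (20, 6), (20, 5), (4, 3), (20, 4), (20, 3), (5, 4), (15, 3), (15, 4), (4, 5), (20, 5)]⟩,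
    ⟨1, [3, 2], [2, 3, 4, 5, 5], [(11, 0)], [], [(18, 4), (14, 3), (14, 2), (11, 1), (11, 0), (19, 4), (19, 3), (15, 2), (20, 5), (20, 4), (5, 5), (20, 5), (4, 3), (20, 3), (18, 5), (18, 4), (14, 3), (11, 2), (11, 1), (19, 5), (19, 4), (15, 3), (20, 6), (20, 5), (5, 6), (20, 6), (4, 4), (5, 4)], [(19, 4), (19, 3), (15, 2), (19, 5), (19, 4), (15, 3), (20, 6), (20, 5), (20, 7), (20, 6), (4, 4), (5, 4), (4, 4), (20, 4)]⟩]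
  adj := [
    [(8, 2), (9, 2), (11, 1), (21, 1), (27, 1)],
    [(9, 1), (11, 2), (21, 1), (27, 2)],
    [(23, 1)],
    [(8, 5), (9, 8), (11, 2)],
    [(9, 5)],
    [(9, 2), (11, 5)]]
  base := [
    ([(6, 1)], 3, [(0, 6), (3, 3), (4, 3), (6, 3), (9, 3), (10, 6), (11, 3), (12, 3), (13, 6), (15, 1), (18, 6), (20, 6), (23, 3), (27, 6), (30, 3), (31, 3)])]
  dense := [
    [0, 0, 0, 7, 7, 7, 0, 6, 0, 0, 0, 6, 0, 0, 7, 4, 0, 0, 8, 5, 3],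
    [0, 0, 0, 7, 6, 0, 0, 6, 0, 6, 0, 0, 8, 0, 0, 7],
    [0, 0, 0, 7, 8, 6, 0, 0, 6, 0, 0, 6, 0, 0, 7, 4, 0, 0, 8, 8, 3],
    [0, 0, 0, 7, 7, 8, 0, 0, 6, 0, 6, 0, 0, 8, 0, 7, 0, 6, 0, 6, 2],
    [0, 0, 0, 0, 0, 0, 0, 0, 0, 2, 7, 0, 0, 8, 0, 8, 1, 0, 0, 7, 4],
    [0, 0, 0, 0, 7, 0, 0, 0, 0, 6, 0, 0, 0, 0, 0, 6],
    [0, 0, 0, 0, 7, 0, 0, 0, 0, 6, 0, 0, 6],
    [0, 0, 0, 0, 7, 0, 0, 0, 0, 0, 6, 0, 0, 0, 0, 6],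
    [0, 0, 0, 0, 7, 0, 0, 0, 0, 0, 6, 0, 0, 6],
    [0, 0, 0, 0, 0, 0, 0, 0, 0, 0, 0, 0, 2, 7],
    [0, 0, 0, 0, 0, 0, 0, 0, 0, 0, 0, 0, 1, 0, 7, 1, 2, 0, 0, 5, 3],
    [0, 0, 0, 0, 0, 0, 0, 0, 0, 0, 0, 0, 0, 1, 7, 0, 0, 2, 0, 6, 8],
    [0, 0, 0, 0, 0, 0, 0, 0, 0, 0, 0, 0, 0, 0, 0, 7],
    [0, 0, 0, 0, 0, 0, 0, 0, 0, 0, 0, 0, 0, 0, 0, 7, 0, 0, 0, 0, 1],
    [0, 0, 0, 0, 0, 0, 0, 0, 0, 0, 0, 0, 0, 0, 0, 0, 0, 0, 0, 0, 2],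
    [0, 0, 0, 0, 0, 0, 0, 0, 0, 0, 0, 0, 0, 0, 0, 0, 0, 6],
    [0, 0, 0, 0, 0, 0, 0, 0, 0, 0, 0, 0, 0, 0, 0, 0, 0, 0, 0, 7, 8],
    [1, 7, 0, 8, 5, 7, 0, 0, 0, 0, 3, 0, 0, 4, 0, 4, 0, 3, 0, 6, 0, 6],
    [0, 0, 0, 0, 0, 0, 5, 0, 0, 2, 7, 0, 2, 8, 0, 8, 4, 5, 0, 0, 2],
    [0, 0, 0, 7, 0, 7, 0, 1, 5, 0, 8, 7, 0, 7, 1, 8, 0, 0, 1, 7, 3, 0, 0, 0, 2, 1],
    [0, 0, 0, 0, 0, 0, 0, 0, 0, 1, 7, 0, 0, 8, 0, 7, 0, 7, 0, 1, 2, 0, 0, 0, 0, 2],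
    [0, 0, 0, 0, 0, 0, 0, 0, 0, 0, 0, 0, 1, 5, 0, 7, 0, 0, 0, 0, 4],
    [0, 0, 0, 7, 7, 0, 0, 5, 1, 8, 0, 7, 8, 0, 1, 6, 8, 0, 3, 8, 3, 0, 0, 0, 2, 0, 1],
    [0, 0, 0, 0, 0, 0, 0, 0, 0, 7, 1, 0, 8, 0, 0, 8, 7, 0, 0, 1, 1, 0, 0, 0, 0, 2],
    [0, 0, 8, 0, 0, 0, 0, 0, 0, 0, 0, 0, 0, 0, 0, 0, 0, 0, 0, 0, 0, 0, 0, 6],
    [0, 0, 0, 0, 0, 0, 0, 0, 0, 0, 0, 8, 0, 0, 6, 0, 0, 0, 8, 0, 5, 0, 0, 0, 0, 1, 2],
    [1, 8, 0, 8, 6, 0, 0, 0, 0, 0, 6, 0, 0, 7, 0, 5, 0, 0, 0, 0, 0, 0, 0, 0, 0, 0, 0, 6],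
    [0, 0, 0, 0, 2, 0, 0, 1, 7, 0, 0, 0, 0, 8, 3, 6, 0, 7, 1, 3, 0, 0, 0, 0, 0, 0, 0, 0, 0, 0, 2, 1],
    [0, 0, 0, 0, 0, 0, 0, 0, 0, 1, 7, 0, 0, 7, 0, 0, 0, 8, 0, 8, 3, 0, 0, 0, 0, 0, 0, 0, 0, 0, 0, 2],
    [0, 0, 0, 0, 0, 0, 0, 0, 0, 0, 0, 0, 1, 7, 0, 7],
    [0, 0, 0, 0, 1, 1, 0, 7, 1, 0, 0, 0, 8, 0, 1, 3, 7, 0, 3, 0, 4, 0, 0, 0, 0, 0, 0, 0, 0, 0, 2, 0, 1],
    [0, 0, 0, 0, 0, 7, 0, 0, 0, 0, 0, 6, 0, 0, 6, 0, 0, 0, 6, 0, 7, 0, 0, 0, 0, 0, 0, 0, 0, 0, 0, 1, 2]]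
  tgt := [
    ([], [(0, 2), (2, 4), (3, 7), (4, 6), (9, 8), (11, 3), (14, 1), (17, 8), (19, 3), (21, 8), (22, 6), (25, 6), (26, 2)]),
    ([], [(0, 1), (2, 5), (3, 3), (4, 3), (7, 6), (9, 2), (10, 6), (14, 5), (16, 6), (17, 8), (19, 6), (21, 8), (22, 3), (25, 3), (26, 1), (27, 3), (30, 6), (31, 6)]),
    ([], [(24, 8)]),
    ([(0, 6)], [(0, 6), (1, 7), (2, 6), (3, 3), (5, 6), (9, 4), (10, 3), (11, 3), (16, 3), (18, 6), (19, 6), (22, 3), (25, 3), (29, 5)]),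
    ([], [(5, 4), (12, 3)]),
    ([(0, 6)], [(0, 4), (1, 6), (2, 8), (5, 7), (9, 6), (10, 3), (11, 3), (12, 3), (16, 6), (18, 6), (19, 6), (22, 3), (25, 3)]),
    ([(0, 1)], []),
    ([(0, 8)], [(2, 1), (3, 8), (4, 3), (6, 1), (9, 4), (11, 8), (12, 8), (18, 2), (19, 2), (20, 4), (22, 7), (23, 8), (25, 1), (27, 6), (30, 3), (31, 3)]),
    ([], []),
    ([], []),
    ([(0, 4)], [(0, 2), (2, 3), (3, 4), (8, 4), (10, 7), (11, 5), (12, 3), (13, 7), (18, 1), (20, 4), (23, 5), (27, 5), (28, 3), (30, 4), (31, 7)]),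
    ([], []),
    ([(0, 6)], [(0, 2), (1, 2), (2, 8), (3, 6), (4, 3), (8, 8), (10, 2), (11, 4), (12, 4), (13, 3), (18, 6), (20, 6), (23, 3), (27, 1), (28, 6), (30, 8), (31, 5)]),
    ([(0, 6)], [(0, 1), (2, 6), (3, 2), (8, 2), (10, 8), (11, 7), (12, 2), (13, 8), (18, 6), (27, 7), (28, 6), (30, 2), (31, 8)]),
    ([(0, 8)], [(0, 6), (1, 1), (2, 7), (3, 4), (4, 7), (8, 5), (11, 1), (12, 5), (13, 3), (18, 2), (20, 2), (23, 7), (27, 4), (28, 6), (30, 5), (31, 2)]),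
    ([], [(12, 4)]),
    ([(0, 2)], [(0, 8), (2, 3), (3, 7), (4, 1), (8, 7), (10, 8), (11, 4), (12, 8), (13, 3), (18, 5), (20, 7), (23, 2), (27, 2), (28, 3), (30, 7), (31, 1)]),
    ([(0, 5)], [(0, 1), (1, 1), (2, 4), (3, 3), (4, 7), (8, 4), (10, 8), (11, 4), (12, 2), (13, 4), (18, 8), (20, 8), (23, 1), (27, 5), (28, 3), (30, 4), (31, 7)]),
    ([(0, 8)], [(0, 5), (1, 4), (2, 2), (3, 7), (4, 7), (8, 3), (11, 1), (12, 4), (18, 2), (19, 6), (20, 7), (22, 3), (23, 2), (25, 3), (27, 5), (28, 3), (30, 4), (31, 7)]),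
    ([(0, 3)], [(0, 6), (3, 3), (8, 3), (10, 2), (11, 7), (12, 5), (13, 6), (18, 3), (20, 4), (23, 5), (27, 6), (30, 3), (31, 3)]),
    ([], [(12, 8), (13, 1)])]

/-- Orbits inside the subgroup. -/
def orbits : List (ℕ × List (ℕ × List ℕ)) := [
    (3, [(0, [1, 4, 5]), (1, [1]), (2, [0, 5, 5]), (3, []), (4, [5, 5]), (5, [5]), (9, [4]), (10, [4, 5, 5]), (11, [4, 5]), (15, [1, 4]), (16, [1, 5, 5]), (17, [0, 5]), (21, [1, 4, 5, 5]), (22, [1, 5]), (23, [0]), (24, [4, 4]), (25, [4, 4, 5, 5]), (26, [4, 4, 5]), (99, [3, 5, 5]), (100, [3, 4, 5, 5]), (101, [0, 0, 5, 5]), (102, [3, 4]), (103, [0, 0]), (104, [3]), (105, [0, 0, 5]), (106, [3, 5]), (107, [3, 4, 5]), (189, [2, 4, 5, 5]), (190, [2, 2, 3, 3]), (192, [0, 1, 2, 2, 4]), (194, [2]), (196, [2, 4, 4, 5]), (197, [1, 2, 2, 3, 5]), (198, [2, 2, 3, 5]), (200, [2, 3,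 4, 5]), (202, [1, 2, 3]), (203, [1, 2, 2]), (204, [2, 3, 4, 4]), (205, [0, 2, 2, 4]), (208, [0, 2, 3, 3]), (209, [0, 1, 2, 2, 3]), (210, [2, 3, 3, 4, 5]), (211, [2, 2, 5]), (213, [2, 2, 4]), (215, [2, 3, 3, 5, 5]), (217, [1, 2, 3, 4, 4]), (218, [2, 2, 3]), (219, [2, 3, 4]), (220, [0, 2, 2]), (222, [1, 2, 2, 4, 5]), (224, [2, 3, 5]), (225, [1, 2, 3, 3, 4]), (226, [2, 2]), (228, [2, 2, 4, 5, 5]), (230, [2, 3, 3, 4]), (232, [2, 3, 3, 5]), (233, [2, 2, 4, 4, 5]), (234, [1, 2, 2, 3]), (236, [2, 5, 5]), (238, [2, 4, 4]), (239, [0, 1, 2, 2]), (240, [2, 4, 5]), (241, [0, 0, 2, 2, 4]), (324, [2, 2, 4, 5]), (326, [1, 1, 2, 3, 3]), (328, [1, 2, 3, 3]), (329, [2, 2, 4, 4]), (330, [2, 3, 3]), (331, [2, 2, 5, 5]), (334, [1, 2]), (335, [2, 2, 3, 3, 4]), (336, [2, 4]), (337, [0, 2, 2, 3]), (339, [0, 0, 2, 2]), (341, [2, 5]),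 (342, [2, 3]), (343, [2, 2, 3, 5, 5]), (345, [1, 2, 2, 5]), (347, [2, 3, 4, 4, 5]), (349, [1, 2, 3, 4]), (350, [1, 2, 2, 4])]),
    (0, [(0, []), (17, [0, 0, 3, 3]), (22, [1, 3, 4])]),
    (54, [(54, []), (55, [0, 1, 1, 4]), (56, [0, 0, 1, 4, 4])])]

theorem checks : certChecks 378 tab cert sw gw orbits = true := by decide +kernel

theorem lin_ok : cert.linOK = true := by decide +kernel

end CfsgLib.Lie.MultExc.GTwoThreePts.P3
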