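import Cfsg.Agent.Lib.Lie.MultExc.GTwoThreePts.Group
import Cfsg.Agent.Lib.Lie.MultExc.GTwoThreePts.CoverData
import Cfsg.Agent.Lib.Lie.MultExc.GTwoThreePts.P2
import Cfsg.Agent.Lib.Lie.MultExc.GTwoThreePts.P3

/-!
The Schur multiplier of the exceptional group of type `G` over three elements has order three.
-/

set_option autoImplicit false
set_option maxRecDepth 100000

namespace CfsgLib.Lie.MultExc.GTwoThreePts

open CfsgLib.Spor.SchurCert

theorem cert_facts : (P2.cert.p = 2 ∧ P2.cert.N = 2 ^ 1 ∧ P2.cert.bound = 1 ∧ P2.cert.m = 6) ∧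
    (P3.cert.p = 3 ∧ P3.cert.N = 3 ^ 2 ∧ P3.cert.bound = 3 ∧ P3.cert.m = 6) ∧
    (tab.trans.map List.length).prod = 4245696 := by
  decide +kernel

theorem ker_dvd {H : Subgroup (Equiv.Perm (Fin 378))} (M : Model 378 tab H) {Γ : Type*} [Group Γ] [Finite Γ]
    (τ : Γ →* ↥H) (hτ : Cfsg.IsStemExtension τ) : Nat.card τ.ker ∣ 3 := by
  obtain ⟨⟨hp, hN, hbd, hm⟩, ⟨hp', hN', hbd', hm'⟩, hord⟩ := cert_facts
  refine card_dvd_of_parts τ.ker (by norm_num) fun ℓ hℓ P hP hPp => ?_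
  by_cases h3 : ℓ = 3
  · subst h3
    have h := part_le M hτ P3.cert (by rw [hp']; norm_num) (e := 2) (by rw [hp', hN']) (by rw [hbd', hN']; norm_num)
      (r := 5824) (by rw [hp']; norm_num) (by rw [hp', hm', hord]; norm_num) P3.checks P3.lin_ok P hP (by rw [hp']; exact hPp)
    rw [hbd'] at h
    refine h.trans (le_of_eq ?_)
    rw [hℓ.factorization_self, pow_one]
  refine le_trans ?_ (Nat.one_le_pow _ _ hℓ.pos)
  by_cases h2 : ℓ = 2
  · subst h2
    have h := part_le M hτ P2.cert (by rw [hp]; norm_num) (e := 1) (by rw [hp, hN]) (by rw [hbd, hN]; norm_num)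
      (r := 66339) (by rw [hp]; norm_num) (by rw [hp, hm, hord]; norm_num) P2.checks P2.lin_ok P hP (by rw [hp]; exact hPp)
    rwa [hbd] at h
  by_cases h7 : ℓ = 7
  · subst h7
    exact part_once M hτ hℓ (r := 606528) (by rw [hord]) (by norm_num) P hP hPp
  by_cases h13 : ℓ = 13
  · subst h13
    exact part_once M hτ hℓ (r := 326592) (by rw [hord]) (by norm_num) P hP hPp
  refine part_other M hτ hℓ ?_ P hP hPp
  rw [hord, show (4245696 : ℕ) = 2 ^ 6 * (3 ^ 6 * (7 * 13)) by norm_num]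
  intro hd
  rcases hℓ.dvd_mul.1 hd with h | h
  · exact h2 ((Nat.prime_dvd_prime_iff_eq hℓ Nat.prime_two).1 (hℓ.dvd_of_dvd_pow h))
  rcases hℓ.dvd_mul.1 h with h | h
  · exact h3 ((Nat.prime_dvd_prime_iff_eq hℓ Nat.prime_three).1 (hℓ.dvd_of_dvd_pow h))
  rcases hℓ.dvd_mul.1 h with h | h
  · exact h7 ((Nat.prime_dvd_prime_iff_eq hℓ (by norm_num)).1 h)
  · exact h13 ((Nat.prime_dvd_prime_iff_eq hℓ (by norm_num)).1 h)

/-- The kernel of the covering group. -/
def kerEquiv : Multiplicative ((i : Fin 1) → ZMod (layers i).m) ≃* Multiplicative (ZMod 3) where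
  toFun f := Multiplicative.ofAdd (f.toAdd 0 : ZMod 3)
  invFun q := Multiplicative.ofAdd fun i => Fin.cases (q.toAdd : ZMod 3) (fun k => k.elim0) i
  left_inv f := by
    apply Multiplicative.toAdd.injective
    funext i
    fin_cases i
    rfl
  right_inv q := rfl
  map_mul' f g := rfl

universe u

open Cfsg.Lie CfsgLib.Lie.Chev in
theorem multiplier_G23 {F : Type u} [Field F] [Fintype F] (hF : Fintype.card F = 3) :
    Cfsg.HasCyclicSchurMultiplier ↥(chevG2.group F) 3 := by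
  let ι : ZMod 3 ≃+* F := FiniteField.ringEquivOfCardEq ((ZMod.card 3).trans hF.symm)
  have hmap : (chevG2.group (ZMod 3)).map (fmap chevG2 ι.toRingHom) = chevG2.group F := by
    rw [goodG2.group_eq, goodG2.group_eq, MonoidHom.map_closure]
    congr 1
    ext g
    constructor
    · rintro ⟨_, ⟨r, t, rfl⟩, rfl⟩
      exact ⟨r, ι t, goodG2.fmap_xu _ r t⟩
    · rintro ⟨r, t, rfl⟩
      exact ⟨_, ⟨r, ι.symm t, rfl⟩, by rw [goodG2.fmap_xu]; simp⟩
  let f : CfsgLib.GTwoThree.G3 ≃* ↥(chevG2.group F) :=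
    (Subgroup.equivMapOfInjective _ _ (fmap_injective ι.toRingHom)).trans (MulEquiv.subgroupCongr hmap)
  obtain ⟨H, M, ⟨e⟩⟩ := exists_g3Model
  have : Finite ↥(chevG2.group F) := Finite.of_equiv _ (e.trans f).toEquiv
  obtain ⟨σ, hσ, hH⟩ := M.gens
  obtain ⟨Γ, _, _, τ, hτ, ⟨k⟩⟩ := exists_cover gens_ok comms_ok σ hσ H hH
  refine hasSchurMultiplier_of_cover_bound (e.trans f) hτ ⟨k.trans kerEquiv⟩ fun Δ _ _ π hπ => ?_
  rw [Nat.card_congr Multiplicative.toAdd, Nat.card_zmod]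
  exact ker_dvd M π hπ

end CfsgLib.Lie.MultExc.GTwoThreePts
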